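import Groth.Agent.Lib.FGAInt26.AlgEquiv
import Groth.Agent.Lib.NumPull26.Basic
import Groth.Agent.Lib.Euler.AmpleIff
import Groth.Agent.Lib.Ample.RelAmple
import Groth.Agent.Lib.SecDeg26.Degree

/-!
# The group of numerically trivial classes
-/

set_option autoImplicit false
set_option linter.all false
set_option maxHeartbeats 400000
set_option backward.isDefEq.respectTransparency false

universe u

open CategoryTheory CategoryTheory.Limits AlgebraicGeometry TopologicalSpace

noncomputable section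

namespace GrothLib.NumReg26

open GrothLib.Cube (Pic clsMod HasCls hasCls_clsMod hasCls_structureModule)
open GrothLib.HodgeIndex (rep isInv_rep cls_rep)
open GrothLib.Snapper (DimLT tw)
open GrothLib.FGAInt26 (ev del)

variable (k : Type u) [Field k] {X : Scheme.{u}} [X.Over (Spec (CommRingCat.of k))]

/-- The classes of numerically trivial modules. -/
def NumCls (z : Pic X) : Prop := Pic13.IsNumEquivZero k X (rep z)

omit [X.Over (Spec (CommRingCat.of k))] in
theorem hasCls_rep {Y : Scheme.{u}} (z : Pic Y) : HasCls (rep z) z := ⟨isInv_rep z, cls_rep z⟩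

omit [X.Over (Spec (CommRingCat.of k))] in
theorem hasCls_pullback {Y : Scheme.{u}} (j : Y ⟶ X) {L : X.Modules} {z : Pic X} (h : HasCls L z) :
    HasCls ((Scheme.Modules.pullback j).obj L) (GrothLib.Cube.pull j z) := by
  obtain ⟨hL, rfl⟩ := h
  exact ⟨_, GrothLib.Cube.clsMod_pullback j hL⟩

theorem numCls_iff {L : X.Modules} {z : Pic X} (hL : HasCls L z) :
    NumCls k z ↔ Pic13.IsNumEquivZero k X L := by
  obtain ⟨e⟩ := (hasCls_rep z).iso hL rfl
  refine ⟨fun h Y i _ h1 h2 => ?_, fun h Y i _ h1 h2 => ?_⟩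
  · rw [← h Y i h1 h2]
    exact NumPull26.curveDeg_congr k _ ((Scheme.Modules.pullback i).mapIso e).symm
  · rw [← h Y i h1 h2]
    exact NumPull26.curveDeg_congr k _ ((Scheme.Modules.pullback i).mapIso e)

variable [IsProper (X ↘ Spec (CommRingCat.of k))]

/-- The degree on a curve, additively. -/
theorem curveDeg_rep_mul {Y : Scheme.{u}} (i : Y ⟶ X) [IsClosedImmersion i] (h2 : topologicalKrullDim Y = 1)
    (z w : Pic X) :
    Pic13.curveDeg k (i ≫ X ↘ Spec (CommRingCat.of k)) ((Scheme.Modules.pullback i).obj (rep (z * w))) =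
      Pic13.curveDeg k (i ≫ X ↘ Spec (CommRingCat.of k)) ((Scheme.Modules.pullback i).obj (rep z)) +
      Pic13.curveDeg k (i ≫ X ↘ Spec (CommRingCat.of k)) ((Scheme.Modules.pullback i).obj (rep w)) := by
  haveI := Euler.isNoetherian_of_proper (X := X) k
  letI : Y.Over (Spec (CommRingCat.of k)) := ⟨i ≫ X ↘ Spec (CommRingCat.of k)⟩
  haveI : IsProper (Y ↘ Spec (CommRingCat.of k)) := inferInstanceAs (IsProper (i ≫ X ↘ Spec (CommRingCat.of k)))
  haveI := Euler.isNoetherian_of_proper (X := Y) k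
  let G := (Coh.push i).obj (Coh.structureModule Y)
  have hG : Coh.IsCoh G := FormalExist7.isCoh_pushforward i (HomSh.isCoh_structureModule Y)
  have hdim : DimLT (CohB1.support G) 2 := by
    refine (Snapper.dimLT_of_dim_le (S := Set.range i) (d := 1) ?_).mono
      (QCoh.support_pushforward_subset_range i _)
    rw [← IsHomeomorph.topologicalKrullDim_eq _ i.isClosedEmbedding.isEmbedding.toHomeomorph.isHomeomorph]
    exact h2.le
  rw [FGAInt26.curveDeg_eq k i h2 (hasCls_rep (z * w)), FGAInt26.curveDeg_eq k i h2 (hasCls_rep z),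
    FGAInt26.curveDeg_eq k i h2 (hasCls_rep w)]
  have h := FGAInt26.del_eq_zero k hG hdim (Fin.cons z (Fin.cons w Fin.elim0) : Fin 2 → Pic X)
  rw [FGAInt26.del_cons, FGAInt26.del_cons, FGAInt26.del_cons] at h
  simp [del] at h
  dsimp only [G] at h
  omega

theorem numCls_one : NumCls k (1 : Pic X) := fun Y i _ h1 h2 => by
  have := curveDeg_rep_mul k i h2 (1 : Pic X) 1
  rw [one_mul] at this
  omega

theorem NumCls.mul {z w : Pic X} (hz : NumCls k z) (hw : NumCls k w) : NumCls k (z * w) := fun Y i _ h1 h2 => by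
  rw [curveDeg_rep_mul k i h2, hz Y i h1 h2, hw Y i h1 h2, add_zero]

theorem NumCls.inv {z : Pic X} (hz : NumCls k z) : NumCls k z⁻¹ := fun Y i _ h1 h2 => by
  have := curveDeg_rep_mul k i h2 z z⁻¹
  rw [mul_inv_cancel] at this
  have h0 := numCls_one k (X := X) Y i h1 h2
  have := hz Y i h1 h2
  omega

theorem NumCls.pow {z : Pic X} (hz : NumCls k z) : ∀ n : ℕ, NumCls k (z ^ n)
  | 0 => by rw [pow_zero]; exact numCls_one k
  | n + 1 => by rw [pow_succ]; exact (NumCls.pow hz n).mul k hz

omit [IsProper (X ↘ Spec (CommRingCat.of k))] in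
/-- Numerically trivial classes restrict to such classes. -/
theorem NumCls.pull {Z : Scheme.{u}} (j : Z ⟶ X) [IsClosedImmersion j] [Z.Over (Spec (CommRingCat.of k))]
    (hj : j ≫ X ↘ Spec (CommRingCat.of k) = Z ↘ Spec (CommRingCat.of k)) {z : Pic X} (hz : NumCls k z) :
    NumCls k (GrothLib.Cube.pull j z) := by
  rw [numCls_iff k (hasCls_pullback j (hasCls_rep z))]
  intro Y i _ h1 h2
  rw [NumPull26.curveDeg_pullback_comp, ← hj, ← Category.assoc]
  exact hz Y (i ≫ j) h1 h2

/-- An ample module has positive degree on every integral curve. -/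
theorem curveDeg_pos_of_ample {H : X.Modules} (hH : CohB1.IsAmple H) {Y : Scheme.{u}} (i : Y ⟶ X)
    [IsClosedImmersion i] [IsIntegral Y] (h2 : topologicalKrullDim Y = 1) :
    0 < Pic13.curveDeg k (i ≫ X ↘ Spec (CommRingCat.of k)) ((Scheme.Modules.pullback i).obj H) := by
  letI : Y.Over (Spec (CommRingCat.of k)) := ⟨i ≫ X ↘ Spec (CommRingCat.of k)⟩
  haveI : IsProper (Y ↘ Spec (CommRingCat.of k)) := inferInstanceAs (IsProper (i ≫ X ↘ Spec (CommRingCat.of k)))
  have hA := Ample.isAmple_pullback_of_isAffineHom i hH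
  have h := (Euler.isAmple_iff_deg_pos k h2 hA.1).1 hA
  show 0 < FGA.eulerCharLE k Y _ 1 - FGA.eulerCharLE k Y _ 1
  rw [FGAInt26.eulerCharLE_eq k (d := 1) h2.le, FGAInt26.eulerCharLE_eq k (d := 1) h2.le]
  simpa [Curv2.deg] using h

end GrothLib.NumReg26
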