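import Groth.Agent.Lib.NumReg26.Step
import Groth.Agent.Lib.BddFam20.Curve

/-!
# Numerically trivial twists of a coherent module are uniformly regular
-/

set_option autoImplicit false
set_option linter.all false
set_option maxHeartbeats 400000
set_option backward.isDefEq.respectTransparency false

universe u

open CategoryTheory CategoryTheory.Limits AlgebraicGeometry TopologicalSpace

noncomputable section

namespace GrothLib.NumReg26

open GrothLib.Cube (Pic clsMod HasCls hasCls_clsMod hasCls_structureModule)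
open GrothLib.HodgeIndex (rep isInv_rep cls_rep)
open GrothLib.Snapper (DimLT tw hf)

variable {k : Type u} [Field k] {n : ℕ}

theorem good_dimLT : ∀ (d : ℕ) {X : Scheme.{u}} [X.Over (Spec (CommRingCat.of k))]
    (ι : X ⟶ CohB1.ProjSpace n k) [IsClosedImmersion ι],
    ι ≫ CohB1.ProjSpace.toSpec n k = X ↘ Spec (CommRingCat.of k) →
    ∀ G : X.Modules, Coh.IsCoh G → DimLT (CohB1.support G) d → Good ι G := by
  intro d
  induction d with
  | zero =>
    intro X _ ι _ hι G hG hd
    haveI := BddFam20.isProper_of_closed ι hι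
    exact good_of_dimLT_one hG fun l hl => (hd l hl).trans_le (by omega)
  | succ d ih =>
    intro X _ ι _ hι G hG
    haveI := BddFam20.isProper_of_closed ι hι
    haveI := Euler.isNoetherian_of_proper (X := X) k
    refine QCoh.coh_induction (fun M => DimLT (CohB1.support M) (d + 1) → Good ι M) ?_ ?_ ?_ G hG ?_
    · rintro M M' ⟨e⟩ h hd
      exact (h (hd.mono (QCoh.support_eq_of_iso e).le)).of_iso e
    · intro M hM _
      refine good_of_dimLT_one ⟨(Euler.isCoh_of_isZero hM).1, (Euler.isCoh_of_isZero hM).2⟩ ?_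
      intro l hl
      exact absurd (hl 0) (fun h => h (ModuleCat.subsingleton_of_isZero ((OX.stalk (l 0)).map_isZero hM)))
    · intro S hS h1 h2 h3 g1 g3 hd
      haveI := hS.mono_f
      haveI := hS.epi_g
      exact Good.extension hS h1 h2 h3 (g1 (hd.mono (QCoh.support_subset_of_mono S.f)))
        (g3 (hd.mono (QCoh.support_subset_of_epi S.g)))
    · intro Z i hi hZ N j hj hN hN0 hsub hd
      letI : Z.Over (Spec (CommRingCat.of k)) := ⟨i ≫ X ↘ Spec (CommRingCat.of k)⟩
      have hιZ : (i ≫ ι) ≫ CohB1.ProjSpace.toSpec n k = Z ↘ Spec (CommRingCat.of k) := by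
        rw [Category.assoc, hι]; rfl
      haveI := BddFam20.isProper_of_closed (i ≫ ι) hιZ
      have hr : DimLT (Set.range i) (d + 1) :=
        hd.mono ((QCoh.range_subset_support_push i N j hN hN0))
      have hdZ : DimLT (Set.univ : Set Z) (d + 1) :=
        (BddFam20.dimLT_preimage i hr).mono (fun x _ => ⟨x, rfl⟩)
      refine Good.push i rfl hN ?_
      by_cases h1 : DimLT (Set.univ : Set Z) 1
      · exact good_of_dimLT_one hN (h1.mono (Set.subset_univ _))
      · exact good_ideal k (i ≫ ι) hιZ hdZ h1 (fun Q hQ hQd => ih (i ≫ ι) hιZ Q hQ hQd) hN j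

variable {X : Scheme.{u}} [X.Over (Spec (CommRingCat.of k))] (ι : X ⟶ CohB1.ProjSpace n k) [IsClosedImmersion ι]
  (hι : ι ≫ CohB1.ProjSpace.toSpec n k = X ↘ Spec (CommRingCat.of k))

include hι in
/-- **Every coherent module on a projective scheme is good.** -/
theorem good_of_isCoh {G : X.Modules} (hG : Coh.IsCoh G) : Good ι G := by
  haveI := BddFam20.isProper_of_closed ι hι
  obtain ⟨D, hD⟩ := Hilb20.exists_dimLT (k := k) (CohB1.support G)
  exact good_dimLT D ι hι G hG hD

include hι in
/-- The twists by numerically trivial invertible modules are uniformly regular. -/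
theorem exists_regular_twists {F : X.Modules} (hF : Coh.IsCoh F) :
    ∃ m : ℤ, ∀ L : X.Modules, PicF.IsInvertible L → Pic13.IsNumEquivZero k X L →
      Pic13.IsMRegular k ι (CohB1.tensorMod L F) m := by
  haveI := BddFam20.isProper_of_closed ι hι
  haveI := Euler.isNoetherian_of_proper (X := X) k
  obtain ⟨m, hm⟩ := (good_of_isCoh ι hι hF).reg
  refine ⟨m, fun L hL hn q hq => ?_⟩
  have hz : NumCls k (clsMod hL) := (numCls_iff k (hasCls_clsMod hL)).2 hn
  have h0 := hm _ hz q (m - q) hq le_rfl
  obtain ⟨a⟩ := Snapper.tw_iso (F := CohB1.tensorMod L F) (hasCls_cl ι (m - q))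
  obtain ⟨b⟩ := Snapper.tw_iso (F := F) (hasCls_clsMod hL)
  obtain ⟨c⟩ := nonempty_tw_tw F (clsMod hL) (cl ι ^ (m - (q : ℤ)))
  haveI := Euler.finiteDimensional_HH k (Snapper.isCoh_tw k hF (clsMod hL * cl ι ^ (m - (q : ℤ)))) q
  haveI : Subsingleton (Coh.HH X (tw F (clsMod hL * cl ι ^ (m - (q : ℤ)))) q) := Module.finrank_zero_iff.1 h0
  exact (Euler.hhEquiv (A := k) (a.symm ≪≫ (Euler.tF _).mapIso (GrTilde.tensorModComm L F ≪≫ b.symm) ≪≫ c)
    q).toEquiv.subsingleton

end GrothLib.NumReg26
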