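import Groth.Agent.Lib.NumReg26.Main
import Groth.Agent.Lib.DecSh20.Embed
import Groth.Agent.Lib.Kleiman.Proper

/-!
# Numerically trivial twists do not change `χ` on a proper scheme
-/

set_option autoImplicit false
set_option linter.all false
set_option maxHeartbeats 800000
set_option backward.isDefEq.respectTransparency false

universe u

open CategoryTheory CategoryTheory.Limits AlgebraicGeometry TopologicalSpace

noncomputable section

namespace GrothLib.NumReg26

open GrothLib.Cube (Pic clsMod HasCls hasCls_clsMod hasCls_structureModule)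
open GrothLib.HodgeIndex (rep isInv_rep cls_rep)
open GrothLib.Snapper (DimLT tw IsTop ptMod topTerm mult)
open GrothLib.FGAInt26 (ev)

variable (k : Type u) [Field k]

theorem ev_eq_of_ample {Z : Scheme.{u}} [Z.Over (Spec (CommRingCat.of k))]
    [IsProper (Z ↘ Spec (CommRingCat.of k))] {H : Z.Modules} (hH : CohB1.IsAmple H) {G : Z.Modules}
    (hG : Coh.IsCoh G) {z : Pic Z} (hz : NumCls k z) : ev k G z = ev k G 1 := by
  obtain ⟨r, N, i, hr, hi, hik, -⟩ := DecSh20.exists_embedding k hH
  haveI := hi
  exact (good_of_isCoh i hik hG).inv z hz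

variable {X : Scheme.{u}} [X.Over (Spec (CommRingCat.of k))] [IsProper (X ↘ Spec (CommRingCat.of k))]

/-- Numerically trivial classes pull back to such classes along every morphism of proper schemes. -/
theorem NumCls.pull_proper {Z : Scheme.{u}} [Z.Over (Spec (CommRingCat.of k))]
    [IsProper (Z ↘ Spec (CommRingCat.of k))] (g : Z ⟶ X)
    (hg : g ≫ X ↘ Spec (CommRingCat.of k) = Z ↘ Spec (CommRingCat.of k)) {z : Pic X} (hz : NumCls k z) :
    NumCls k (GrothLib.Cube.pull g z) := by
  rw [numCls_iff k (hasCls_pullback g (hasCls_rep z))]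
  intro Y i _ h1 h2
  haveI := h1
  letI : Y.Over (Spec (CommRingCat.of k)) := ⟨i ≫ Z ↘ Spec (CommRingCat.of k)⟩
  haveI : IsProper (Y ↘ Spec (CommRingCat.of k)) := inferInstanceAs (IsProper (i ≫ Z ↘ Spec (CommRingCat.of k)))
  have hg' : (i ≫ g) ≫ X ↘ Spec (CommRingCat.of k) = Y ↘ Spec (CommRingCat.of k) := by
    rw [Category.assoc, hg]; rfl
  have h1' := numCls_one k (X := X)
  obtain ⟨e₁⟩ := (hasCls_structureModule X).iso (hasCls_rep (1 : Pic X)) rfl
  have hnum : NumPull26.NumEq k (rep z) (rep (1 : Pic X)) := fun W j _ a b => by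
    rw [hz W j a b, h1' W j a b]
  rw [NumPull26.curveDeg_pullback_comp]
  show Pic13.curveDeg k (Y ↘ Spec (CommRingCat.of k)) _ = 0
  rw [NumPull26.curveDeg_eq_of_numEq k (i ≫ g) hg' h2 (isInv_rep z) (isInv_rep 1) hnum,
    NumPull26.curveDeg_congr k _ ((Scheme.Modules.pullback (i ≫ g)).mapIso e₁.symm ≪≫ OX.pullUnitIso _)]
  exact sub_self _

/-- **Twisting by a numerically trivial class does not change `χ`.** -/
theorem ev_eq_of_numCls {z : Pic X} (hz : NumCls k z) {G : X.Modules} (hG : Coh.IsCoh G) :
    ev k G z = ev k G 1 := by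
  haveI := Euler.isNoetherian_of_proper (X := X) k
  obtain ⟨D, hD⟩ := Hilb20.exists_dimLT (k := k) (CohB1.support G)
  induction D generalizing G with
  | zero =>
    have hzero : ∀ w : Pic X, Curv2.euler k X (tw G w) = 0 := fun w => by
      rw [Euler.euler_eq_sum k _ (N := 0) fun q _ => Cohom.subsingleton_HH_of_isZero (Hilb20.isZero_of_support_eq_empty
        (Snapper.eq_empty_of_dimLT_zero (FGAInt26.dimLT_tw hD _))) q]
      simp only [Finset.range_zero, Finset.sum_empty]
    rw [ev, ev, hzero, hzero]
  | succ d ih =>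
    let φ : X.Modules → ℤ := fun M => ev k M z - ev k M 1
    have hS := QCoh.isClosed_support_of_isCoh hG
    have hvanAll : ∀ M : X.Modules, Coh.IsCoh M → DimLT (CohB1.support M) d → φ M = 0 := fun M hM hd =>
      sub_eq_zero.2 (ih hM hd)
    have hiso : ∀ M N : X.Modules, Nonempty (M ≅ N) → φ M = φ N := fun M N ⟨e⟩ => by
      simp only [φ, FGAInt26.ev_iso k e]
    have hadd : ∀ T : ShortComplex X.Modules, T.ShortExact → Coh.IsCoh T.X₁ → Coh.IsCoh T.X₂ → Coh.IsCoh T.X₃ →
        φ T.X₂ = φ T.X₁ + φ T.X₃ := fun T hT a b c => by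
      simp only [φ, ev_additive k hT a b c]
      ring
    suffices hpt : ∀ x : X, IsTop d x → φ (ptMod x) = 0 by
      have h := (Snapper.top_decomposition φ hiso hS hD (fun T hT a b c _ => hadd T hT a b c)
        (fun M hM _ hd => hvanAll M hM hd) G hG subset_rfl).2
      have h0 : φ G = 0 := h.trans (finsum_eq_zero_of_forall_eq_zero fun x => by
        unfold Snapper.topTerm
        split_ifs with hx
        · rw [hpt x hx, smul_zero]
        · rfl)
      exact sub_eq_zero.1 h0
    intro x hx
    let I := Scheme.IdealSheafData.vanishingIdeal (⟨closure ({x} : Set X), isClosed_closure⟩ : Closeds X)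
    haveI : IsIntegral I.subscheme := Snapper.isIntegral_pt x
    letI : I.subscheme.Over (Spec (CommRingCat.of k)) := ⟨I.subschemeι ≫ X ↘ Spec (CommRingCat.of k)⟩
    haveI : IsProper (I.subscheme ↘ Spec (CommRingCat.of k)) :=
      inferInstanceAs (IsProper (I.subschemeι ≫ X ↘ Spec (CommRingCat.of k)))
    have hdim : topologicalKrullDim I.subscheme = (d : WithBot ℕ∞) := by
      refine (IsHomeomorph.topologicalKrullDim_eq _
        I.subschemeι.isClosedEmbedding.isEmbedding.toHomeomorph.isHomeomorph).trans ?_
      rw [Snapper.range_pt]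
      exact hx
    obtain ⟨Z, g, hZ, hgp, hZd, hgen, H, hH⟩ := Kleiman.exists_projective_cover (X := I.subscheme) k hdim
    haveI := hZ
    let g' := g ≫ I.subschemeι
    letI : Z.Over (Spec (CommRingCat.of k)) := ⟨g ≫ I.subscheme ↘ Spec (CommRingCat.of k)⟩
    haveI : IsProper (Z ↘ Spec (CommRingCat.of k)) := hgp
    have hg' : g' ≫ X ↘ Spec (CommRingCat.of k) = Z ↘ Spec (CommRingCat.of k) := Category.assoc _ _ _
    have hgx : g' (genericPoint Z) = x := by
      show I.subschemeι (g (genericPoint Z)) = x
      rw [hgen]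
      exact (inseparable_iff_closure_eq.2
        ((QCoh.closure_singleton_eq_range I.subschemeι).trans (Snapper.range_pt x))).eq
    haveI : EnoughInjectives Z.Modules := SheafCoh.enoughInjectives_sheafOfModules Z.ringCatSheaf
    let R := fun i => (Coh.Rpush g' i).obj (Coh.structureModule Z)
    have hcl : DimLT (closure ({x} : Set X)) (d + 1) := hx.dimLT
    have hR : ∀ i, φ (R i) = (if i = 0 then g'.residueDegree (genericPoint Z) else 0) • φ (ptMod x) := by
      intro i
      obtain ⟨hRc, hsupp, hmult⟩ := Snapper.rpush_structure hg' hZd i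
      rw [hgx] at hsupp hmult
      rw [(Snapper.top_decomposition φ hiso isClosed_closure hcl (fun T hT a b c _ => hadd T hT a b c)
        (fun M hM _ hd => hvanAll M hM hd) (R i) hRc hsupp).2,
        finsum_eq_single _ x fun y hne => Snapper.topTerm_eq_zero φ fun hy hys =>
          hne (hy.eq_of_specializes (specializes_iff_mem_closure.2 (hsupp hys)) hcl).symm,
        Snapper.topTerm_of φ hx, hmult hx]
    obtain ⟨M₀, hM₀⟩ := Snapper.exists_euler_pullback_eq_sum (k := k) hg'
    have hsum : ∀ w : Pic X, ev k (Coh.structureModule Z) (GrothLib.Cube.pull g' w) =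
        ∑ i ∈ Finset.range (M₀ + 1), (-1 : ℤ) ^ i * ev k (R i) w := fun w => by
      rw [FGAInt26.ev_eq k (hasCls_pullback g' (hasCls_rep w))]
      refine (Euler.euler_of_iso k (OX.tensorUnitLeftIso _)).trans ?_
      rw [hM₀ _ (Euler.isFinLocFree_of_isInvertible (isInv_rep w))]
      rfl
    have hO : Coh.IsCoh (Coh.structureModule Z) := Euler.isCoh_of_isInvertible Euler.isInvertible_structure
    have h0 := ev_eq_of_ample k hH hO (hz.pull_proper k g' hg')
    rw [← map_one (GrothLib.Cube.pull g'), hsum, hsum, ← sub_eq_zero, ← Finset.sum_sub_distrib,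
      Finset.sum_eq_single 0 (fun i _ hi => by
        rw [← mul_sub]
        have := hR i
        rw [if_neg hi, zero_smul] at this
        rw [show ev k (R i) z - ev k (R i) 1 = 0 from this, mul_zero])
        (fun h => absurd (Finset.mem_range.2 (Nat.succ_pos _)) h), pow_zero, one_mul, one_mul] at h0
    have h1 := hR 0
    rw [if_pos rfl, show φ (R 0) = 0 from h0] at h1
    have hne : g'.residueDegree (genericPoint Z) ≠ 0 := by
      letI := (g'.residueFieldMap (genericPoint Z)).hom.toAlgebra
      haveI : Module.Finite (X.residueField (g' (genericPoint Z))) (Z.residueField (genericPoint Z)) :=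
        (Snapper.isTop_iff_finite hg' hZd).1 (hgx ▸ hx)
      exact Module.finrank_pos.ne'
    exact (smul_eq_zero.1 h1.symm).resolve_left hne

end GrothLib.NumReg26
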