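import Groth.Agent.Lib.NumReg26.Num
import Groth.Agent.Lib.Snapper.ZGrowth

/-!
# Twisting by a numerically trivial class changes `χ` by a homomorphism
-/

set_option autoImplicit false
set_option linter.all false
set_option maxHeartbeats 400000
set_option backward.isDefEq.respectTransparency false

universe u

open CategoryTheory CategoryTheory.Limits AlgebraicGeometry TopologicalSpace

noncomputable section

namespace GrothLib.NumReg26

open GrothLib.Cube (Pic clsMod HasCls hasCls_clsMod hasCls_structureModule)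
open GrothLib.HodgeIndex (rep isInv_rep cls_rep)
open GrothLib.Snapper (DimLT tw)
open GrothLib.FGAInt26 (ev)
open GrothLib.Euler (tF)

variable (k : Type u) [Field k] {X : Scheme.{u}} [X.Over (Spec (CommRingCat.of k))]
  [IsProper (X ↘ Spec (CommRingCat.of k))]

theorem ev_additive {S : ShortComplex X.Modules} (hS : S.ShortExact) (h₁ : Coh.IsCoh S.X₁)
    (h₂ : Coh.IsCoh S.X₂) (h₃ : Coh.IsCoh S.X₃) (z : Pic X) :
    ev k S.X₂ z = ev k S.X₁ z + ev k S.X₃ z := by
  haveI := Euler.isNoetherian_of_proper (X := X) k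
  exact Euler.euler_additive k (S := S.map (tF (rep z)))
    (OX.tensor_map_shortExact (OX.flat_of_isFinLocFree (Euler.isFinLocFree_of_isInvertible (isInv_rep z))) hS)
    (FGAInt26.isCoh_tw k h₁ z) (FGAInt26.isCoh_tw k h₂ z) (FGAInt26.isCoh_tw k h₃ z)

/-- **The increment along a numerically trivial class does not depend on the other class**, once it does
not for modules with smaller support. -/
theorem ev_mul_numCls {H : X.Modules} (hH : CohB1.IsAmple H) {G : X.Modules} (hG : Coh.IsCoh G) {d : ℕ}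
    (hd : DimLT (CohB1.support G) (d + 1))
    (ih : ∀ Q : X.Modules, Coh.IsCoh Q → DimLT (CohB1.support Q) d → ∀ z, NumCls k z → ev k Q z = ev k Q 1)
    (a : Pic X) {w : Pic X} (hw : NumCls k w) :
    ev k G (a * w) - ev k G w = ev k G a - ev k G 1 := by
  haveI := Euler.isNoetherian_of_proper (X := X) k
  let Inv : Pic X → Prop := fun b => ∀ x w, NumCls k w →
    ev k G (b * (x * w)) - ev k G (x * w) = ev k G (b * x) - ev k G x
  have hmul : ∀ b c, Inv b → Inv c → Inv (b * c) := fun b c hb hc x w hw => by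
    have h1 := hb (c * x) w hw
    have h2 := hc x w hw
    simp only [mul_assoc] at h1 h2 ⊢
    omega
  have hinv : ∀ b, Inv b → Inv b⁻¹ := fun b hb x w hw => by
    have h1 := hb (b⁻¹ * x) w hw
    rw [← mul_assoc b b⁻¹ x, mul_inv_cancel, one_mul, ← mul_assoc b (b⁻¹ * x) w, ← mul_assoc b b⁻¹ x,
      mul_inv_cancel, one_mul, mul_assoc b⁻¹ x w] at h1
    omega
  have hamp : ∀ {A : X.Modules} (hA : CohB1.IsAmple A), Inv (clsMod hA.1) := by
    intro A hA
    obtain ⟨m₀, hm₀⟩ := Snapper.exists_mono_small k hA hG hd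
    have hp : ∀ m, m₀ ≤ m → Inv (clsMod hA.1 ^ m) := by
      intro m hm x w hw
      obtain ⟨S, hS, e1, e2, hQ, hQd⟩ := hm₀ m hm
      have hcls : HasCls (CohB1.tensorPow A m) (clsMod hA.1 ^ m) := (hasCls_clsMod hA.1).tensorPow m
      obtain ⟨t⟩ := Snapper.tw_iso (F := G) hcls
      have h1 : Coh.IsCoh S.X₁ := by rw [e1]; exact hG
      have h2 : Coh.IsCoh S.X₂ := by
        rw [e2]; exact QCoh.isCoh_of_iso t (FGAInt26.isCoh_tw k hG _)
      have key : ∀ y, ev k G (clsMod hA.1 ^ m * y) - ev k G y = ev k S.X₃ y := fun y => by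
        have h := ev_additive k hS h1 h2 hQ y
        have f1 : ev k S.X₁ y = ev k G y := FGAInt26.ev_iso k (eqToIso e1) y
        have f2 : ev k S.X₂ y = ev k G (clsMod hA.1 ^ m * y) :=
          (FGAInt26.ev_iso k (eqToIso e2 ≪≫ t.symm) y).trans (FGAInt26.ev_tw k G _ y)
        omega
      rw [key, key, ← FGAInt26.ev_tw, ih _ (FGAInt26.isCoh_tw k hQ x) (FGAInt26.dimLT_tw hQd x) w hw,
        FGAInt26.ev_tw, mul_one]
    have := hmul _ _ (hp (m₀ + 1) (Nat.le_succ _)) (hinv _ (hp m₀ le_rfl))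
    rwa [pow_succ, mul_comm (clsMod hA.1 ^ m₀), mul_inv_cancel_right] at this
  obtain ⟨j₀, hj₀⟩ := Kodaira.exists_isAmple_pow_tensor hH (isInv_rep a)
  have hA := hj₀ (j₀ + 1) (Nat.le_succ _)
  have hHj : CohB1.IsAmple (CohB1.tensorPow H (j₀ + 1)) :=
    (Ample.isAmple_tensorPow_iff hH.1 (Nat.succ_pos j₀)).1 hH
  have h := hmul _ _ (hamp hA) (hinv _ (hamp hHj))
  have e1 : clsMod hA.1 = clsMod hHj.1 * a := by
    rw [← Cube.HasCls.eq ((hasCls_clsMod hHj.1).tensor ⟨isInv_rep a, cls_rep a⟩) (hasCls_clsMod hA.1)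
      ⟨Iso.refl _⟩]
  rw [e1, mul_comm (clsMod hHj.1), mul_inv_cancel_right] at h
  simpa using h 1 w hw

end GrothLib.NumReg26
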