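import Groth.Agent.Lib.BddFam20.Embedded
import Groth.Agent.Lib.CMReg.Extension
import Groth.Agent.Lib.K0Sub.PushExact
import Groth.Prelude.Def_PicGrp

/-!
# Castelnuovo's lemma on a closed subscheme of projective space over any field
-/

set_option autoImplicit false
set_option linter.all false
set_option maxHeartbeats 400000
set_option backward.isDefEq.respectTransparency false

universe u

open CategoryTheory CategoryTheory.Limits AlgebraicGeometry

noncomputable section

namespace GrothLib.NumReg26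

variable {k : Type u} [Field k] {n : ℕ} {X : Scheme.{u}} [X.Over (Spec (CommRingCat.of k))]
  (i : X ⟶ CohB1.ProjSpace n k) [IsClosedImmersion i]
  (hi : i ≫ CohB1.ProjSpace.toSpec n k = X ↘ Spec (CommRingCat.of k))
  {F G : X.Modules} (hF : Coh.IsCoh F) (hG : Coh.IsCoh G)
  (f : Pic13.twistOn k i F (-1) ⟶ F) (g : F ⟶ G) (hfg : f ≫ g = 0) (hS : (ShortComplex.mk f g hfg).ShortExact)
  {m : ℤ} (hGm : Pic13.IsMRegular k i G m)

include hi hF hG hS hGm in
/-- The cohomology of the middle term when the cokernel is regular. -/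
theorem vanish_of_extension :
    (∀ (q : ℕ) (t : ℤ), 2 ≤ q → m - q ≤ t → Subsingleton (Coh.HH X (Pic13.twistOn k i F t) q)) ∧
    (∀ (q : ℕ) (t : ℤ), 1 ≤ q →
      m + (Module.finrank k (Coh.HH X (Pic13.twistOn k i F (m - 1)) 1) : ℤ) - q ≤ t →
      Subsingleton (Coh.HH X (Pic13.twistOn k i F t) q)) := by
  haveI := GrothLib.BddFam20.isProper_of_closed i hi
  haveI := GrothLib.Euler.isNoetherian_of_proper (X := X) k
  obtain ⟨_, _, _⟩ := GrothLib.K0Sub.pushforward_exact i
  have hS' := hS.map_of_exact (Scheme.Modules.pushforward i)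
  have hPF := GrothLib.FormalExist7.isCoh_pushforward i hF
  obtain ⟨g0⟩ := GrothLib.Regularity.nonempty_push_tensor i
    (GrothLib.Euler.isFinLocFree_of_isInvertible (GrothLib.CMReg.isInvertible_twist (n := n) (k := k) (-1))) F
    (Iso.refl ((Scheme.Modules.pullback i).obj (Twist.twistProjSpace n k (-1))))
  let ι : CohB1.tensorMod ((Scheme.Modules.pushforward i).obj F) (Twist.twistProjSpace n k (-1)) ⟶
      (Scheme.Modules.pushforward i).obj F := g0.inv ≫ (Scheme.Modules.pushforward i).map f
  haveI : Mono ι := @mono_comp _ _ _ _ _ g0.inv inferInstance _ hS'.mono_f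
  haveI : Epi (ShortComplex.mk f g hfg |>.map (Scheme.Modules.pushforward i)).g := hS'.epi_g
  let c : cokernel ι ≅ (Scheme.Modules.pushforward i).obj G :=
    cokernelEpiComp g0.inv ((Scheme.Modules.pushforward i).map f) ≪≫
      (cokernelIsCokernel _).coconePointUniqueUpToIso hS'.gIsCokernel
  have hG' : Curv2.IsMRegular k n (cokernel ι) m := fun q hq hqn => by
    haveI := GrothLib.BddFam20.isMRegular_push i hi hG hGm q hq hqn
    exact (GrothLib.Euler.hhEquiv (A := k)
      (PicGrp.tensorModIso c (Iso.refl (Twist.twistProjSpace n k (m - q)))) q).toEquiv.subsingleton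
  have h2 : ∀ (q : ℕ) (t : ℤ), 2 ≤ q → m - q ≤ t → Subsingleton (Coh.HH X (Pic13.twistOn k i F t) q) :=
    fun q t hq ht => by
      obtain ⟨e⟩ := GrothLib.BddFam20.nonempty_HH_twistOn i hi hF t q
      haveI := GrothLib.CMReg.vanish_two_le hPF hG' q t hq ht
      exact e.toEquiv.subsingleton
  refine ⟨h2, fun q t hq ht => ?_⟩
  obtain ⟨e₁⟩ := GrothLib.BddFam20.nonempty_HH_twistOn i hi hF (m - 1) 1
  rw [e₁.finrank_eq] at ht
  rcases eq_or_lt_of_le hq with rfl | h
  · obtain ⟨e⟩ := GrothLib.BddFam20.nonempty_HH_twistOn i hi hF t 1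
    haveI := GrothLib.CMReg.vanish_one hPF hG' t (show m - 1 +
      (GrothLib.CMReg.h1dim ((Scheme.Modules.pushforward i).obj F) (m - 1) : ℤ) ≤ t from by
        push_cast at ht; linarith)
    exact e.toEquiv.subsingleton
  · exact h2 q t h (by omega)

end GrothLib.NumReg26
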