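import Groth.Agent.Lib.NumReg26.Inv
import Groth.Agent.Lib.Regularity10.Transfer
import Groth.Agent.Lib.ProjPic26.Relative

/-!
# Uniform properties of the twists by numerically trivial classes
-/

set_option autoImplicit false
set_option linter.all false
set_option maxHeartbeats 400000
set_option backward.isDefEq.respectTransparency false

universe u

open CategoryTheory CategoryTheory.Limits AlgebraicGeometry TopologicalSpace

noncomputable section

namespace GrothLib.NumReg26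

open GrothLib.Cube (Pic clsMod HasCls hasCls_clsMod hasCls_structureModule)
open GrothLib.HodgeIndex (rep isInv_rep cls_rep)
open GrothLib.Snapper (DimLT tw hf)
open GrothLib.FGAInt26 (ev)
open GrothLib.Euler (tF)
open GrothLib.NefGrowth (hl)

variable {k : Type u} [Field k] {X : Scheme.{u}} [X.Over (Spec (CommRingCat.of k))]
  {N : ℕ} (ι : X ⟶ CohB1.ProjSpace N k)

/-- The class of the restriction of `O(1)`. -/
def cl : Pic X := GrothLib.Cube.pull ι (GrothLib.ProjPic26.tw N k 1)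

omit [X.Over (Spec (CommRingCat.of k))] in
theorem hasCls_cl (t : ℤ) :
    HasCls ((Scheme.Modules.pullback ι).obj (Twist.twistProjSpace N k t)) (cl ι ^ t) := by
  have h : GrothLib.Cube.pull ι (GrothLib.ProjPic26.tw N k t) = cl ι ^ t := by
    rw [cl, GrothLib.ProjPic26.tw_eq_zpow, map_zpow]
  exact ⟨_, (GrothLib.Cube.clsMod_pullback ι (GrothLib.ProjPic26.isInvertible_twistProjSpace N k t)).trans h⟩

omit [X.Over (Spec (CommRingCat.of k))] in
theorem pull_cl {Z : Scheme.{u}} (j : Z ⟶ X) : GrothLib.Cube.pull j (cl ι) = cl (j ≫ ι) := by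
  obtain ⟨h1, e1⟩ := hasCls_pullback j (hasCls_cl ι 1)
  obtain ⟨h2, e2⟩ := hasCls_cl (j ≫ ι) 1
  rw [zpow_one] at e1 e2
  rw [← e1, ← e2]
  exact Cube.HasCls.eq (hasCls_clsMod h1) (hasCls_clsMod h2)
    ⟨(Scheme.Modules.pullbackComp j ι).app _⟩

/-- What is wanted of the twists of a module by numerically trivial classes. -/
structure Good (G : X.Modules) : Prop where
  inv : ∀ z, NumCls k z → ev k G z = ev k G 1
  reg : ∃ m : ℤ, ∀ z, NumCls k z → ∀ (q : ℕ) (t : ℤ), 1 ≤ q → m - q ≤ t → hf k G (z * cl ι ^ t) q = 0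
  bdd : ∀ t : ℤ, ∃ B : ℕ, ∀ z, NumCls k z → hf k G (z * cl ι ^ t) 0 ≤ B

variable {ι} [IsProper (X ↘ Spec (CommRingCat.of k))]

omit [IsProper (X ↘ Spec (CommRingCat.of k))] in
theorem Good.of_iso {G G' : X.Modules} (e : G ≅ G') (h : Good ι G) : Good ι G' where
  inv z hz := by rw [← FGAInt26.ev_iso k e, ← FGAInt26.ev_iso k e]; exact h.inv z hz
  reg := by
    obtain ⟨m, hm⟩ := h.reg
    exact ⟨m, fun z hz q t hq ht => by rw [← Snapper.hf_iso k e]; exact hm z hz q t hq ht⟩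
  bdd t := by
    obtain ⟨B, hB⟩ := h.bdd t
    exact ⟨B, fun z hz => by rw [← Snapper.hf_iso k e]; exact hB z hz⟩

theorem hf_extension_le {S : ShortComplex X.Modules} (hS : S.ShortExact) (h₁ : Coh.IsCoh S.X₁)
    (h₂ : Coh.IsCoh S.X₂) (h₃ : Coh.IsCoh S.X₃) (w : Pic X) (q : ℕ) :
    hf k S.X₂ w q ≤ hf k S.X₁ w q + hf k S.X₃ w q := by
  haveI := Euler.isNoetherian_of_proper (X := X) k
  exact NefGrowth.hl_X₂_le k (S := S.map (tF (rep w)))
    (OX.tensor_map_shortExact (OX.flat_of_isFinLocFree (Euler.isFinLocFree_of_isInvertible (isInv_rep w))) hS)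
    (Snapper.isCoh_tw k h₁ w) (Snapper.isCoh_tw k h₂ w) (Snapper.isCoh_tw k h₃ w) q

theorem Good.extension {S : ShortComplex X.Modules} (hS : S.ShortExact) (h₁ : Coh.IsCoh S.X₁)
    (h₂ : Coh.IsCoh S.X₂) (h₃ : Coh.IsCoh S.X₃) (g₁ : Good ι S.X₁) (g₃ : Good ι S.X₃) : Good ι S.X₂ where
  inv z hz := by
    rw [ev_additive k hS h₁ h₂ h₃, ev_additive k hS h₁ h₂ h₃, g₁.inv z hz, g₃.inv z hz]
  reg := by
    obtain ⟨m₁, hm₁⟩ := g₁.reg
    obtain ⟨m₃, hm₃⟩ := g₃.reg
    refine ⟨max m₁ m₃, fun z hz q t hq ht => ?_⟩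
    have := hf_extension_le (k := k) hS h₁ h₂ h₃ (z * cl ι ^ t) q
    have e1 := hm₁ z hz q t hq (by omega)
    have e3 := hm₃ z hz q t hq (by omega)
    omega
  bdd t := by
    obtain ⟨B₁, hB₁⟩ := g₁.bdd t
    obtain ⟨B₃, hB₃⟩ := g₃.bdd t
    exact ⟨B₁ + B₃, fun z hz => (hf_extension_le (k := k) hS h₁ h₂ h₃ _ 0).trans (Nat.add_le_add (hB₁ z hz) (hB₃ z hz))⟩

/-- A module with finite support is good. -/
theorem good_of_dimLT_one {G : X.Modules} (hG : Coh.IsCoh G) (h : DimLT (CohB1.support G) 1) : Good ι G := by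
  haveI := Euler.isNoetherian_of_proper (X := X) k
  have hdim : ∀ w : Pic X, topologicalKrullDim ↥(CohB1.support (tw G w)) ≤ 0 := fun w => by
    exact_mod_cast Snapper.dim_le_of_dimLT (d := 0) (QCoh.isClosed_support_of_isCoh (Snapper.isCoh_tw k hG w))
      (FGAInt26.dimLT_tw h w)
  have hv : ∀ w q, 1 ≤ q → Subsingleton (Coh.HH X (tw G w) q) := fun w q hq =>
    Euler.subsingleton_HH_of_support_dim_le_zero k (Snapper.isCoh_tw k hG w) (hdim w) q hq
  have hinv : ∀ z : Pic X, ev k G z = ev k G 1 := fun z => by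
    have := FGAInt26.del_eq_zero k hG h (Fin.cons z Fin.elim0 : Fin 1 → Pic X)
    rw [FGAInt26.del_cons] at this
    simp [FGAInt26.del] at this
    omega
  refine ⟨fun z _ => hinv z, ⟨0, fun z _ q t hq _ => ?_⟩, fun t => ⟨(ev k G 1).toNat, fun z _ => ?_⟩⟩
  · haveI := hv (z * cl ι ^ t) q hq
    exact Module.finrank_zero_of_subsingleton
  · have h1 := hinv (z * cl ι ^ t)
    rw [ev, Euler.euler_eq_sum k _ (N := 1) (fun q hq => hv _ q hq)] at h1
    simp only [Finset.sum_range_one, pow_zero, one_mul] at h1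
    show Module.finrank k (Coh.HH X (tw G (z * cl ι ^ t)) 0) ≤ _
    omega

variable {Z : Scheme.{u}} (j : Z ⟶ X) [IsClosedImmersion j] [Z.Over (Spec (CommRingCat.of k))]
  (hj : j ≫ X ↘ Spec (CommRingCat.of k) = Z ↘ Spec (CommRingCat.of k))

include hj in
/-- The twists of a direct image. -/
theorem hf_push {M : Z.Modules} (hM : Coh.IsCoh M) (w : Pic X) (q : ℕ) :
    hf k ((Coh.push j).obj M) w q = hf k M (GrothLib.Cube.pull j w) q ∧
      ev k ((Coh.push j).obj M) w = ev k M (GrothLib.Cube.pull j w) := by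
  haveI : IsProper (Z ↘ Spec (CommRingCat.of k)) := hj ▸ inferInstance
  haveI := Euler.isNoetherian_of_proper (X := Z) k
  obtain ⟨g⟩ := (hasCls_rep (GrothLib.Cube.pull j w)).iso (hasCls_pullback j (hasCls_rep w)) rfl
  obtain ⟨e⟩ := Regularity.nonempty_push_tensor j (Euler.isFinLocFree_of_isInvertible (isInv_rep w)) M g
  haveI : (tw M (GrothLib.Cube.pull j w)).IsQuasicoherent := (Snapper.isCoh_tw k hM _).1
  refine ⟨?_, ?_⟩
  · obtain ⟨f⟩ := Snapper.nonempty_HH_linearEquiv_pushforward (A := k) j hj (tw M (GrothLib.Cube.pull j w)) q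
    exact ((f.trans (Euler.hhEquiv (A := k) e q)).finrank_eq).symm
  · exact (Euler.euler_of_iso k e).symm.trans
      (Snapper.euler_pushforward j hj (tw M (GrothLib.Cube.pull j w)))

include hj in
/-- Direct images of good modules are good. -/
theorem Good.push {M : Z.Modules} (hM : Coh.IsCoh M) (h : Good (j ≫ ι) M) : Good ι ((Coh.push j).obj M) := by
  have hc : ∀ (z : Pic X) (t : ℤ), GrothLib.Cube.pull j (z * cl ι ^ t) =
      GrothLib.Cube.pull j z * cl (j ≫ ι) ^ t := fun z t => by rw [map_mul, map_zpow, pull_cl]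
  refine ⟨fun z hz => ?_, ?_, fun t => ?_⟩
  · rw [(hf_push j hj hM z 0).2, (hf_push j hj hM 1 0).2, map_one]
    exact h.inv _ (hz.pull k j hj)
  · obtain ⟨m, hm⟩ := h.reg
    exact ⟨m, fun z hz q t hq ht => by
      rw [(hf_push j hj hM _ q).1, hc]; exact hm _ (hz.pull k j hj) q t hq ht⟩
  · obtain ⟨B, hB⟩ := h.bdd t
    exact ⟨B, fun z hz => by rw [(hf_push j hj hM _ 0).1, hc]; exact hB _ (hz.pull k j hj)⟩

end GrothLib.NumReg26
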