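import Groth.Agent.Lib.NumReg26.Good
import Groth.Agent.Lib.LinForms26.Forms
import Groth.Agent.Lib.Ample.GenLocusPull

/-!
# The section of `O(1)` on an integral subvariety and the vanishing of negative twists
-/

set_option autoImplicit false
set_option linter.all false
set_option maxHeartbeats 400000
set_option backward.isDefEq.respectTransparency false

universe u

open CategoryTheory CategoryTheory.Limits AlgebraicGeometry TopologicalSpace Opposite

noncomputable section

namespace GrothLib.NumReg26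

open GrothLib.Cube (Pic clsMod HasCls hasCls_clsMod hasCls_structureModule)
open GrothLib.HodgeIndex (rep isInv_rep cls_rep)
open GrothLib.Snapper (DimLT tw hf)
open GrothLib.Euler (tF)
open GrothLib.QCoh (stalkLin)

variable (k : Type u) [Field k] {Z : Scheme.{u}} [Z.Over (Spec (CommRingCat.of k))]
  [IsProper (Z ↘ Spec (CommRingCat.of k))]

/-- The degree on a curve of the powers of a class. -/
theorem curveDeg_rep_zpow {Y : Scheme.{u}} (i : Y ⟶ Z) [IsClosedImmersion i] (h2 : topologicalKrullDim Y = 1)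
    (z : Pic Z) (t : ℤ) :
    Pic13.curveDeg k (i ≫ Z ↘ Spec (CommRingCat.of k)) ((Scheme.Modules.pullback i).obj (rep (z ^ t))) =
      t * Pic13.curveDeg k (i ≫ Z ↘ Spec (CommRingCat.of k)) ((Scheme.Modules.pullback i).obj (rep z)) := by
  let D : Pic Z → ℤ := fun w =>
    Pic13.curveDeg k (i ≫ Z ↘ Spec (CommRingCat.of k)) ((Scheme.Modules.pullback i).obj (rep w))
  have hadd : ∀ a b, D (a * b) = D a + D b := curveDeg_rep_mul k i h2
  have h1 : D 1 = 0 := by have := hadd 1 1; rw [one_mul] at this; omega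
  show D (z ^ t) = t * D z
  induction t using Int.induction_on with
  | zero => simp [h1]
  | succ n ih => rw [zpow_add_one, hadd, ih]; ring
  | pred n ih =>
    have := hadd (z ^ (-(n : ℤ) - 1)) z
    rw [← zpow_add_one, sub_add_cancel, ih] at this
    linarith [this]

variable [IsIntegral Z] {N : ℕ} (ι : Z ⟶ CohB1.ProjSpace N k) [IsClosedImmersion ι]

omit [IsIntegral Z] [IsProper (Z ↘ Spec (CommRingCat.of k))] in
theorem isAmple_pullback_one : CohB1.IsAmple ((Scheme.Modules.pullback ι).obj (Twist.twistProjSpace N k 1)) :=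
  Ample.isAmple_pullback_of_isAffineHom ι (Ample.isAmple_twistProjSpace_one N k)

/-- A section of `O(1)` on a variety of positive dimension vanishing somewhere but not everywhere. -/
theorem exists_section (h1 : ¬ DimLT (Set.univ : Set Z) 1) :
    ∃ s : Coh.structureModule Z ⟶ (Scheme.Modules.pullback ι).obj (Twist.twistProjSpace N k 1),
      s ≠ 0 ∧ ¬ IsIso s := by
  haveI := Euler.isNoetherian_of_proper (X := Z) k
  obtain ⟨l, hl⟩ := LinForms26.exists_coord (ι (genericPoint Z))
  let a := GrothLib.CMReg.coordSect N k (l : ℕ)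
  let s₀ := GrothLib.Regularity.theta₀ a
  have hgl : CohB1.genLocus _ s₀ = (GrothLib.CMReg.cc N k).locus a := by
    show CohB1.genLocus _ ((GrothLib.CMReg.cc N k).hom a ≫ (Ample.ProjMap.pcocIso N k).inv) = _
    rw [← Iso.symm_hom, Ample.genLocus_comp_iso]
    exact (GrothLib.CMReg.cc N k).genLocus_hom a
  obtain ⟨e⟩ := Ample.nonempty_pullback_structureModule ι
  let s : Coh.structureModule Z ⟶ (Scheme.Modules.pullback ι).obj (Twist.twistProjSpace N k 1) :=
    e.inv ≫ (Scheme.Modules.pullback ι).map s₀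
  have hs : CohB1.genLocus _ s = ι ⁻¹ᵁ (GrothLib.CMReg.cc N k).locus a := by
    rw [← hgl]
    exact Ample.genLocus_pullback ι _ (GrothLib.CMReg.isInvertible_twist (n := N) (k := k) 1) s₀ e.symm
  refine ⟨s, fun h0 => ?_, fun hiso => h1 ?_⟩
  · have hb := Snapper.stalk_bijective_of_mem_genLocus s (x := genericPoint Z) (by rw [hs]; exact hl)
    haveI : Nontrivial ((Coh.structureModule Z).presheaf.stalk (genericPoint Z)) :=
      (HomSh.unitStalk (X := Z) (genericPoint Z)).symm.toEquiv.nontrivial
    obtain ⟨v, hv⟩ := exists_ne (0 : (Coh.structureModule Z).presheaf.stalk (genericPoint Z))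
    refine hv (hb.1 ?_)
    clear hs hb
    clear_value s
    subst h0
    obtain ⟨U, hU, b, rfl⟩ := TopCat.Presheaf.exists_germ_eq (Coh.structureModule Z).presheaf v
    rw [QCoh.stalkLin_germ, map_zero]
    exact map_zero _
  · have htop : ι ⁻¹ᵁ (GrothLib.CMReg.cc N k).locus a = ⊤ := top_le_iff.1 (hs ▸ Snapper.le_genLocus s ⊤
      fun w _ => @Snapper.stalk_bijective_of_isIso_restrict Z _ _ s ⊤ inferInstance w trivial)
    have haff : IsAffineOpen (⊤ : Z.Opens) := htop ▸ (LinForms26.isAffineOpen_coord l).preimage ι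
    haveI : IsAffine ((⊤ : Z.Opens) : Scheme.{u}) := haff
    haveI : IsAffine Z := .of_isIso (Scheme.topIso Z).inv
    let q := Z ↘ Spec (CommRingCat.of k)
    haveI : IsAffineHom q := isAffineHom_of_isAffine q
    haveI : IsFinite q := IsFinite.iff_isProper_and_isAffineHom.2 ⟨inferInstance, inferInstance⟩
    have hd : _root_.IsDiscrete (q ⁻¹' {q (genericPoint Z)}) := q.isDiscrete_preimage_singleton _
    rw [show q ⁻¹' {q (genericPoint Z)} = Set.univ from
      Set.eq_univ_of_forall fun y => Subsingleton.elim (α := PrimeSpectrum k) _ _, isDiscrete_univ_iff] at hd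
    intro l hl
    by_contra hlen
    have hall : ∀ y : Z, y = genericPoint Z := fun y =>
      Set.mem_singleton_iff.1 (((genericPoint_spec Z).specializes (y := y) trivial).mem_closed
        (isClosed_discrete _) rfl)
    have := l.strictMono (show (0 : Fin (l.length + 1)) < Fin.last _ by
      rw [Fin.lt_def]; simp only [Fin.val_zero, Fin.val_last]; omega)
    rw [hall (l 0), hall (l (Fin.last _))] at this
    exact lt_irrefl _ this

/-- Negative twists of numerically trivial modules have no sections. -/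
theorem hf_zero_of_neg (h1 : ¬ DimLT (Set.univ : Set Z) 1) {z : Pic Z} (hz : NumCls k z) {t : ℤ} (ht : t < 0) :
    hf k (Coh.structureModule Z) (z * cl ι ^ t) 0 = 0 := by
  by_contra hne
  set A := z * cl ι ^ t with hA
  have hcl : HasCls ((Scheme.Modules.pullback ι).obj (Twist.twistProjSpace N k 1)) (cl ι) := by
    simpa using hasCls_cl ι 1
  have hamp := isAmple_pullback_one k ι
  -- the degree on every curve is negative
  have hneg : ∀ (Y : Scheme.{u}) (i : Y ⟶ Z) [IsClosedImmersion i], IsIntegral Y → topologicalKrullDim Y = 1 →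
      Pic13.curveDeg k (i ≫ Z ↘ Spec (CommRingCat.of k)) ((Scheme.Modules.pullback i).obj (rep A)) < 0 := by
    intro Y i _ hY h2
    rw [hA, curveDeg_rep_mul k i h2, hz Y i hY h2, curveDeg_rep_zpow k i h2, zero_add]
    refine mul_neg_of_neg_of_pos ht ?_
    obtain ⟨g⟩ := hcl.iso (hasCls_rep (cl ι)) rfl
    rw [← NumPull26.curveDeg_congr k _ ((Scheme.Modules.pullback i).mapIso g)]
    exact curveDeg_pos_of_ample k hamp i h2
  -- there is a curve
  obtain ⟨s, hs, hsi⟩ := exists_section k ι h1
  obtain ⟨Y₀, i₀, hi₀, hY₀, h2₀, -⟩ := SecDeg26.exists_curveDeg_pos k hamp.1 hs hsi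
  -- a section
  let M := tw (Coh.structureModule Z) A
  obtain ⟨eM⟩ : Nonempty (M ≅ rep A) := ⟨OX.tensorUnitLeftIso (rep A)⟩
  haveI : Nontrivial (Coh.HH Z M 0) := Module.nontrivial_of_finrank_pos (R := k) (Nat.pos_of_ne_zero hne)
  obtain ⟨x, hx⟩ := exists_ne (0 : Coh.HH Z M 0)
  let σ : Γ(M, ⊤) := ProjCoh.H0top M x
  let τ : Coh.structureModule Z ⟶ M := M.unitHomEquiv.symm (Ample.globalSection M σ)
  have hτ : τ ≠ 0 := fun h0 => by
    have h2 : M.unitHomEquiv τ = Ample.globalSection M σ := Equiv.apply_symm_apply _ _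
    have h3 : (Ample.globalSection M σ).1 (op ⊤) = σ := InvExt.mres_self M σ
    rw [← h2, h0] at h3
    have h4 : (M.unitHomEquiv (0 : Coh.structureModule Z ⟶ M)).1 (op ⊤) = (0 : Γ(M, ⊤)) := rfl
    exact hx ((ProjCoh.H0top M).injective (by rw [map_zero]; exact h3.symm.trans h4))
  let τ' := τ ≫ eM.hom
  have hτ' : τ' ≠ 0 := fun h0 => hτ (by rw [← cancel_mono eM.hom, zero_comp]; exact h0)
  by_cases hiso : IsIso τ'
  · have := hneg Y₀ i₀ hY₀ h2₀
    have e1 : A = 1 := by
      obtain ⟨hr, hc⟩ := hasCls_rep A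
      rw [← hc]
      exact (Cube.HasCls.eq (hasCls_structureModule Z) (hasCls_clsMod hr) ⟨asIso τ'⟩).symm
    rw [e1] at this
    have h0 := numCls_one k (X := Z) Y₀ i₀ hY₀ h2₀
    omega
  · obtain ⟨Y, i, hi, hY, h2, hpos⟩ := SecDeg26.exists_curveDeg_pos k (isInv_rep A) hτ' hiso
    have := hneg Y i hY h2
    omega

end GrothLib.NumReg26
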