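import Groth.Agent.Lib.NumReg26.Section
import Groth.Agent.Lib.NumReg26.Extension
import Groth.Agent.Lib.CurveMult.GGCurve

/-!
# The inductive step on an integral subvariety
-/

set_option autoImplicit false
set_option linter.all false
set_option maxHeartbeats 800000
set_option backward.isDefEq.respectTransparency false

universe u

open CategoryTheory CategoryTheory.Limits AlgebraicGeometry TopologicalSpace Opposite

noncomputable section

namespace GrothLib.NumReg26

open GrothLib.Cube (Pic clsMod HasCls hasCls_clsMod hasCls_structureModule)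
open GrothLib.HodgeIndex (rep isInv_rep cls_rep)
open GrothLib.Snapper (DimLT tw hf)
open GrothLib.FGAInt26 (ev)
open GrothLib.Euler (tF)
open GrothLib.QCoh (stalkLin)

theorem nonempty_tw_tw {Y : Scheme.{u}} (F : Y.Modules) (z w : Pic Y) :
    Nonempty (tw (tw F z) w ≅ tw F (z * w)) := by
  obtain ⟨e⟩ := Snapper.tw_iso (F := F) (HasCls.tensor (hasCls_rep z) (hasCls_rep w))
  exact ⟨OX.tensorAssoc F (rep z) (rep w) ≪≫ e.symm⟩

variable (k : Type u) [Field k] {Z : Scheme.{u}} [Z.Over (Spec (CommRingCat.of k))]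
  [IsProper (Z ↘ Spec (CommRingCat.of k))] [IsIntegral Z] {n : ℕ} (ι : Z ⟶ CohB1.ProjSpace n k)
  [IsClosedImmersion ι] (hι : ι ≫ CohB1.ProjSpace.toSpec n k = Z ↘ Spec (CommRingCat.of k))

omit [IsProper (Z ↘ Spec (CommRingCat.of k))] [IsIntegral Z] [IsClosedImmersion ι]
  [Z.Over (Spec (CommRingCat.of k))] in
theorem nonempty_one_tensor (N : Z.Modules) :
    Nonempty ((tF N).obj ((Scheme.Modules.pullback ι).obj (Twist.twistProjSpace n k 1)) ≅ tw N (cl ι)) := by
  have h : HasCls ((Scheme.Modules.pullback ι).obj (Twist.twistProjSpace n k 1)) (cl ι) := by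
    simpa using hasCls_cl ι 1
  obtain ⟨t⟩ := Snapper.tw_iso (F := N) h
  exact ⟨GrTilde.tensorModComm ((Scheme.Modules.pullback ι).obj (Twist.twistProjSpace n k 1)) N ≪≫ t.symm⟩

include hι in
/-- Uniform vanishing for the twists of a submodule of the structure sheaf. -/
theorem exists_vanish {d : ℕ} (hd : DimLT (Set.univ : Set Z) (d + 1)) (h1 : ¬ DimLT (Set.univ : Set Z) 1)
    (ih : ∀ Q : Z.Modules, Coh.IsCoh Q → DimLT (CohB1.support Q) d → Good ι Q)
    {N : Z.Modules} (hN : Coh.IsCoh N) (j : N ⟶ Coh.structureModule Z) [Mono j] :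
    ∃ m : ℤ, ∀ z, NumCls k z →
      (∀ (q : ℕ) (t : ℤ), 2 ≤ q → m - q ≤ t → hf k N (z * cl ι ^ t) q = 0) ∧
      (∀ (q : ℕ) (t : ℤ), 1 ≤ q → m + (hf k N (z * cl ι ^ (m - 1)) 1 : ℤ) - q ≤ t →
        hf k N (z * cl ι ^ t) q = 0) := by
  haveI := Euler.isNoetherian_of_proper (X := Z) k
  obtain ⟨s, hs, -⟩ := exists_section k ι h1
  have hL := (isAmple_pullback_one k ι).1
  haveI hsm : Mono s := Euler.mono_of_ne_zero Euler.isInvertible_structure hL hs
  have hO : Coh.IsCoh (Coh.structureModule Z) := HomSh.isCoh_structureModule Z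
  have hflatO := OX.flat_of_isFinLocFree (Euler.isFinLocFree_of_isInvertible (Euler.isInvertible_structure (X := Z)))
  -- `s ⊗ N` is a monomorphism
  haveI : Mono ((tF (Coh.structureModule Z)).map s) := by
    let S0 : ShortComplex Z.Modules := ShortComplex.mk s (cokernel.π s) (cokernel.condition s)
    have hS0 : S0.ShortExact :=
      { exact := ShortComplex.exact_of_g_is_cokernel _ (cokernelIsCokernel s), mono_f := hsm,
        epi_g := inferInstanceAs (Epi (cokernel.π s)) }
    exact (OX.tensor_map_shortExact hflatO hS0).mono_f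
  haveI : PreservesFiniteLimits ((DCoh.tensorBi (X := Z)).obj (Coh.structureModule Z)) :=
    ProjFormula.preservesFiniteLimits_tensorBi_obj hflatO
  let sN := (tF N).map s
  haveI : Mono sN := by
    let g := ((DCoh.tensorBi (X := Z)).obj
      ((Scheme.Modules.pullback ι).obj (Twist.twistProjSpace n k 1))).map j
    have he : sN ≫ g = ((DCoh.tensorBi (X := Z)).obj (Coh.structureModule Z)).map j ≫
        (tF (Coh.structureModule Z)).map s := (((DCoh.tensorBi (X := Z)).map s).naturality j).symm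
    haveI : Mono (((DCoh.tensorBi (X := Z)).obj (Coh.structureModule Z)).map j) := inferInstance
    haveI : Mono (sN ≫ g) := he ▸ mono_comp _ _
    exact mono_of_mono sN g
  let C := cokernel sN
  let A := (tF N).obj ((Scheme.Modules.pullback ι).obj (Twist.twistProjSpace n k 1))
  obtain ⟨eA⟩ := nonempty_one_tensor k ι N
  have hA : Coh.IsCoh A := QCoh.isCoh_of_iso eA.symm (Snapper.isCoh_tw k hN _)
  let B := (tF N).obj (Coh.structureModule Z)
  let eB : B ≅ N := OX.tensorUnitLeftIso N
  have hB : Coh.IsCoh B := QCoh.isCoh_of_iso eB.symm hN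
  have hC : Coh.IsCoh C := QCoh.isCoh_cokernel sN hB hA
  have hCd : DimLT (CohB1.support C) d := by
    haveI := OX.preservesColimitsOfSize_tensorBi_flip_obj N
    have e : C ≅ CohB1.tensorMod (cokernel s) N := (PreservesCokernel.iso (tF N) s).symm
    refine Snapper.dimLT_of_notMem (η := genericPoint Z) (hd.mono (Set.subset_univ _))
      (fun x _ => specializes_iff_mem_closure.1 ((genericPoint_spec Z).specializes trivial)) ?_
    intro hmem
    have h2 : genericPoint Z ∈ CohB1.support (cokernel s) :=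
      CurveMult.support_tensor_subset _ _ (QCoh.support_subset_of_epi e.inv hmem)
    exact QCoh.notMem_support_cokernel_of_surjective s
      (Euler.stalkLin_genericPoint_bijective Euler.isInvertible_structure hL hs).2 h2
  obtain ⟨mC, hmC⟩ := (ih C hC hCd).reg
  refine ⟨mC + 1, fun z hz => ?_⟩
  let F := tw N z
  have hF : Coh.IsCoh F := Snapper.isCoh_tw k hN z
  have htw : ∀ t : ℤ, Nonempty (Pic13.twistOn k ι F t ≅ tw N (z * cl ι ^ t)) := fun t => by
    obtain ⟨a⟩ := Snapper.tw_iso (F := F) (hasCls_cl ι t)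
    obtain ⟨b⟩ := nonempty_tw_tw N z (cl ι ^ t)
    exact ⟨a.symm ≪≫ b⟩
  let v := z * cl ι ^ (-1 : ℤ)
  let S : ShortComplex Z.Modules := ShortComplex.mk sN (cokernel.π sN) (cokernel.condition sN)
  have hS : S.ShortExact :=
    { exact := ShortComplex.exact_of_g_is_cokernel _ (cokernelIsCokernel sN), mono_f := ‹Mono sN›,
      epi_g := inferInstanceAs (Epi (cokernel.π sN)) }
  have hT := OX.tensor_map_shortExact (OX.flat_of_isFinLocFree (Euler.isFinLocFree_of_isInvertible (isInv_rep v))) hS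
  obtain ⟨a₁⟩ := htw (-1)
  obtain ⟨b₁⟩ := nonempty_tw_tw N (cl ι) v
  let α : Pic13.twistOn k ι F (-1) ≅ (tF (rep v)).obj B := a₁ ≪≫ (tF (rep v)).mapIso eB.symm
  let β : F ≅ (tF (rep v)).obj A := eqToIso (by
    show tw N z = tw N (cl ι * v)
    congr 1
    show z = cl ι * (z * cl ι ^ (-1 : ℤ))
    rw [zpow_neg_one, mul_left_comm, mul_inv_cancel, mul_one]) ≪≫ b₁.symm ≪≫ (tF (rep v)).mapIso eA.symm
  let G := tw C v
  have hG : Coh.IsCoh G := Snapper.isCoh_tw k hC v
  let f := α.hom ≫ (tF (rep v)).map sN ≫ β.inv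
  let g := β.hom ≫ (tF (rep v)).map (cokernel.π sN)
  have hfg : f ≫ g = 0 := by
    simp only [f, g, Category.assoc, Iso.inv_hom_id_assoc, ← Functor.map_comp, cokernel.condition,
      Functor.map_zero, comp_zero]
  have hSE : (ShortComplex.mk f g hfg).ShortExact :=
    ShortComplex.shortExact_of_iso (S₁ := S.map (tF (rep v)))
      (ShortComplex.isoMk α.symm β.symm (Iso.refl _) (by simp [f, S]) (by simp [g, S])) hT
  have hGm : Pic13.IsMRegular k ι G (mC + 1) := fun q hq => by
    obtain ⟨a⟩ := Snapper.tw_iso (F := G) (hasCls_cl ι (mC + 1 - q))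
    obtain ⟨b⟩ := nonempty_tw_tw C v (cl ι ^ (mC + 1 - (q : ℤ)))
    have h0 : hf k C (z * cl ι ^ (mC - (q : ℤ))) q = 0 := hmC z hz q _ hq le_rfl
    have he : v * cl ι ^ (mC + 1 - (q : ℤ)) = z * cl ι ^ (mC - (q : ℤ)) := by
      show z * cl ι ^ (-1 : ℤ) * _ = _
      rw [mul_assoc, ← zpow_add]
      congr 2
      ring
    rw [← he] at h0
    haveI := Euler.finiteDimensional_HH k (Snapper.isCoh_tw k hC (v * cl ι ^ (mC + 1 - (q : ℤ)))) q
    haveI : Subsingleton (Coh.HH Z (tw C (v * cl ι ^ (mC + 1 - (q : ℤ)))) q) := Module.finrank_zero_iff.1 h0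
    exact (Euler.hhEquiv (A := k) (a.symm ≪≫ b) q).toEquiv.subsingleton
  obtain ⟨r1, r2⟩ := vanish_of_extension ι hι hF hG f g hfg hSE hGm
  have hfz : ∀ (q : ℕ) (t : ℤ), Subsingleton (Coh.HH Z (Pic13.twistOn k ι F t) q) → hf k N (z * cl ι ^ t) q = 0 :=
    fun q t h => by
      obtain ⟨a⟩ := htw t
      haveI := h
      exact (LinearEquiv.finrank_eq (Euler.hhEquiv (A := k) a q)).symm.trans Module.finrank_zero_of_subsingleton
  refine ⟨fun q t hq ht => hfz q t (r1 q t hq ht), fun q t hq ht => hfz q t (r2 q t hq ?_)⟩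
  obtain ⟨a⟩ := htw (mC + 1 - 1)
  rw [LinearEquiv.finrank_eq (Euler.hhEquiv (A := k) a 1)]
  exact ht

include hι in
/-- With a bound on sections, the vanishing gives goodness. -/
theorem good_of_inv_bdd {d : ℕ} (hd : DimLT (Set.univ : Set Z) (d + 1)) (h1 : ¬ DimLT (Set.univ : Set Z) 1)
    (ih : ∀ Q : Z.Modules, Coh.IsCoh Q → DimLT (CohB1.support Q) d → Good ι Q)
    {N : Z.Modules} (hN : Coh.IsCoh N) (j : N ⟶ Coh.structureModule Z) [Mono j]
    (hinv : ∀ z, NumCls k z → ev k N z = ev k N 1)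
    (hbdd : ∀ t : ℤ, ∃ B : ℕ, ∀ z, NumCls k z → hf k N (z * cl ι ^ t) 0 ≤ B) : Good ι N := by
  haveI := Euler.isNoetherian_of_proper (X := Z) k
  obtain ⟨m, hm⟩ := exists_vanish k ι hι hd h1 ih hN j
  obtain ⟨B, hB⟩ := hbdd (m - 1)
  refine ⟨hinv, ⟨m + ((B : ℤ) - ev k N (cl ι ^ (m - 1))).toNat, fun z hz q t hq ht => ?_⟩, hbdd⟩
  refine (hm z hz).2 q t hq ?_
  have hev : ev k N (z * cl ι ^ (m - 1)) = ev k N (cl ι ^ (m - 1)) := by
    have h := ev_mul_numCls k (isAmple_pullback_one k ι) hN (d := d) (hd.mono (Set.subset_univ _))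
      (fun Q hQ hQd => (ih Q hQ hQd).inv) (cl ι ^ (m - 1)) hz
    rw [hinv z hz] at h
    rw [mul_comm]
    omega
  have hsum : ev k N (z * cl ι ^ (m - 1)) =
      (hf k N (z * cl ι ^ (m - 1)) 0 : ℤ) - (hf k N (z * cl ι ^ (m - 1)) 1 : ℤ) := by
    rw [ev, Euler.euler_eq_sum k _ (N := 2) fun q hq2 => ?_]
    · simp [hf, NefGrowth.hl, Finset.sum_range_succ]
      ring
    · haveI := Euler.finiteDimensional_HH k (Snapper.isCoh_tw k hN (z * cl ι ^ (m - 1))) q
      exact Module.finrank_zero_iff.1 ((hm z hz).1 q (m - 1) hq2 (by omega))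
  have := hB z hz
  omega

include hι in
/-- The structure sheaf of a variety of positive dimension is good. -/
theorem good_structure {d : ℕ} (hd : DimLT (Set.univ : Set Z) (d + 1)) (h1 : ¬ DimLT (Set.univ : Set Z) 1)
    (ih : ∀ Q : Z.Modules, Coh.IsCoh Q → DimLT (CohB1.support Q) d → Good ι Q) :
    Good ι (Coh.structureModule Z) := by
  haveI := Euler.isNoetherian_of_proper (X := Z) k
  have hO : Coh.IsCoh (Coh.structureModule Z) := HomSh.isCoh_structureModule Z
  obtain ⟨s, hs, -⟩ := exists_section k ι h1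
  have hL := (isAmple_pullback_one k ι).1
  haveI hsm : Mono s := Euler.mono_of_ne_zero Euler.isInvertible_structure hL hs
  let S : ShortComplex Z.Modules := ShortComplex.mk s (cokernel.π s) (cokernel.condition s)
  have hS : S.ShortExact :=
    { exact := ShortComplex.exact_of_g_is_cokernel _ (cokernelIsCokernel s), mono_f := hsm,
      epi_g := inferInstanceAs (Epi (cokernel.π s)) }
  have hL' : Coh.IsCoh S.X₂ := Euler.isCoh_of_isInvertible hL
  have hQ : Coh.IsCoh S.X₃ := QCoh.isCoh_cokernel s hO hL'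
  have hQd : DimLT (CohB1.support S.X₃) d :=
    Snapper.dimLT_of_notMem (η := genericPoint Z) (hd.mono (Set.subset_univ _))
      (fun x _ => specializes_iff_mem_closure.1 ((genericPoint_spec Z).specializes trivial))
      (QCoh.notMem_support_cokernel_of_surjective s
        (Euler.stalkLin_genericPoint_bijective Euler.isInvertible_structure hL hs).2)
  obtain ⟨eA⟩ := nonempty_one_tensor k ι (Coh.structureModule Z)
  have hbdd : ∀ t : ℤ, ∃ B : ℕ, ∀ z, NumCls k z → hf k (Coh.structureModule Z) (z * cl ι ^ t) 0 ≤ B := by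
    have hnat : ∀ a : ℕ, ∃ B : ℕ, ∀ z, NumCls k z →
        hf k (Coh.structureModule Z) (z * cl ι ^ ((a : ℤ) - 1)) 0 ≤ B := by
      intro a
      induction a with
      | zero => exact ⟨0, fun z hz => (hf_zero_of_neg k ι h1 hz (by norm_num)).le⟩
      | succ a iha =>
        obtain ⟨B, hB⟩ := iha
        obtain ⟨B', hB'⟩ := (ih _ hQ hQd).bdd ((a : ℤ) - 1)
        refine ⟨B + B', fun z hz => ?_⟩
        have h := hf_extension_le (k := k) hS hO hL' hQ (z * cl ι ^ ((a : ℤ) - 1)) 0
        have e : hf k S.X₂ (z * cl ι ^ ((a : ℤ) - 1)) 0 =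
            hf k (Coh.structureModule Z) (z * cl ι ^ (((a + 1 : ℕ) : ℤ) - 1)) 0 := by
          rw [show hf k S.X₂ (z * cl ι ^ ((a : ℤ) - 1)) 0 =
            hf k (tw (Coh.structureModule Z) (cl ι)) (z * cl ι ^ ((a : ℤ) - 1)) 0 from
              Snapper.hf_iso k ((Euler.tFUnitIso S.X₂).symm ≪≫ eA) _ 0, Snapper.hf_twist, mul_left_comm,
            ← zpow_one_add]
          congr 3
          push_cast; ring
        have h1' : hf k S.X₁ (z * cl ι ^ ((a : ℤ) - 1)) 0 ≤ B := hB z hz
        have h3' : hf k S.X₃ (z * cl ι ^ ((a : ℤ) - 1)) 0 ≤ B' := hB' z hz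
        omega
    intro t
    rcases lt_or_ge t 0 with ht | ht
    · exact ⟨0, fun z hz => (hf_zero_of_neg k ι h1 hz ht).le⟩
    · obtain ⟨B, hB⟩ := hnat (t + 1).toNat
      refine ⟨B, fun z hz => ?_⟩
      have := hB z hz
      rwa [show ((t + 1).toNat : ℤ) - 1 = t by omega] at this
  refine good_of_inv_bdd k ι hι hd h1 ih hO (𝟙 _) ?_ hbdd
  -- `χ` is constant: a homomorphism bounded above
  let f : Pic Z → ℤ := fun z => ev k (Coh.structureModule Z) z - ev k (Coh.structureModule Z) 1
  have hadd : ∀ a w, NumCls k w → f (a * w) = f a + f w := fun a w hw => by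
    have := ev_mul_numCls k (isAmple_pullback_one k ι) hO (d := d) (hd.mono (Set.subset_univ _))
      (fun Q hQ hQd => (ih Q hQ hQd).inv) a hw
    simp only [f]
    omega
  obtain ⟨m, hm⟩ := exists_vanish k ι hι hd h1 ih hO (𝟙 _)
  obtain ⟨B, hB⟩ := hbdd (m - 1)
  have hub : ∀ w, NumCls k w → f w ≤ (B : ℤ) - ev k (Coh.structureModule Z) (cl ι ^ (m - 1)) := fun w hw => by
    have h1 := hadd (cl ι ^ (m - 1)) w hw
    have hsum : ev k (Coh.structureModule Z) (w * cl ι ^ (m - 1)) ≤
        (hf k (Coh.structureModule Z) (w * cl ι ^ (m - 1)) 0 : ℤ) := by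
      rw [ev, Euler.euler_eq_sum k _ (N := 2) fun q hq2 => ?_]
      · simp [hf, NefGrowth.hl, Finset.sum_range_succ]
      · haveI := Euler.finiteDimensional_HH k (Snapper.isCoh_tw k hO (w * cl ι ^ (m - 1))) q
        exact Module.finrank_zero_iff.1 ((hm w hw).1 q (m - 1) hq2 (by omega))
    have := hB w hw
    rw [mul_comm] at h1
    simp only [f] at h1 ⊢
    omega
  intro z hz
  have hpow : ∀ (w : Pic Z), NumCls k w → ∀ a : ℕ, f (w ^ a) = a * f w := fun w hw a => by
    induction a with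
    | zero => simp [f]
    | succ a iha => rw [pow_succ, hadd _ _ hw, iha]; push_cast; ring
  have hle : ∀ w, NumCls k w → f w ≤ 0 := fun w hw => by
    by_contra hpos
    push Not at hpos
    set K := (B : ℤ) - ev k (Coh.structureModule Z) (cl ι ^ (m - 1))
    have h1 := hub _ (hw.pow k (K.toNat + 1))
    rw [hpow w hw] at h1
    have : ((K.toNat + 1 : ℕ) : ℤ) ≤ ((K.toNat + 1 : ℕ) : ℤ) * f w := le_mul_of_one_le_right (by positivity) (by omega)
    omega
  have h1 := hle z hz
  have h2 := hle z⁻¹ (hz.inv k)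
  have h3 := hadd z z⁻¹ (hz.inv k)
  have h4 : f 1 = 0 := by simp [f]
  rw [mul_inv_cancel, h4] at h3
  simp only [f] at h1 h2 h3 ⊢
  omega

include hι in
/-- **Every submodule of the structure sheaf is good.** -/
theorem good_ideal {d : ℕ} (hd : DimLT (Set.univ : Set Z) (d + 1)) (h1 : ¬ DimLT (Set.univ : Set Z) 1)
    (ih : ∀ Q : Z.Modules, Coh.IsCoh Q → DimLT (CohB1.support Q) d → Good ι Q)
    {N : Z.Modules} (hN : Coh.IsCoh N) (j : N ⟶ Coh.structureModule Z) [Mono j] : Good ι N := by
  haveI := Euler.isNoetherian_of_proper (X := Z) k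
  have hO : Coh.IsCoh (Coh.structureModule Z) := HomSh.isCoh_structureModule Z
  have hη : ∀ x : Z, x ∈ closure ({genericPoint Z} : Set Z) := fun x =>
    specializes_iff_mem_closure.1 ((genericPoint_spec Z).specializes trivial)
  by_cases hmem : genericPoint Z ∈ CohB1.support N
  swap
  · exact ih N hN (Snapper.dimLT_of_notMem (hd.mono (Set.subset_univ _)) (fun x _ => hη x) hmem)
  have gO := good_structure k ι hι hd h1 ih
  have hsurj : Function.Surjective (stalkLin j (genericPoint Z)) := by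
    intro w
    haveI : Nontrivial (N.presheaf.stalk (genericPoint Z)) := not_subsingleton_iff_nontrivial.1 hmem
    obtain ⟨v, hv⟩ := exists_ne (0 : N.presheaf.stalk (genericPoint Z))
    let u := HomSh.unitStalk (X := Z) (genericPoint Z)
    obtain ⟨r, hr⟩ := u.surjective (stalkLin j (genericPoint Z) v)
    obtain ⟨r', hr'⟩ := u.surjective w
    have hr0 : r ≠ 0 := fun h0 => hv (QCoh.stalkLin_injective j _ (by rw [← hr, h0, map_zero, map_zero]))
    have hr0' : (show Z.functionField from r) ≠ 0 := hr0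
    refine ⟨((show Z.functionField from r') / (show Z.functionField from r) : Z.functionField) • v, ?_⟩
    erw [map_smul, ← hr, ← hr', ← map_smul]
    congr 1
    exact div_mul_cancel₀ (show Z.functionField from r') hr0'
  let S : ShortComplex Z.Modules := ShortComplex.mk j (cokernel.π j) (cokernel.condition j)
  have hS : S.ShortExact :=
    { exact := ShortComplex.exact_of_g_is_cokernel _ (cokernelIsCokernel j), mono_f := ‹Mono j›,
      epi_g := inferInstanceAs (Epi (cokernel.π j)) }
  have hQ : Coh.IsCoh S.X₃ := QCoh.isCoh_cokernel j hN hO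
  have hQd : DimLT (CohB1.support S.X₃) d :=
    Snapper.dimLT_of_notMem (η := genericPoint Z) (hd.mono (Set.subset_univ _)) (fun x _ => hη x)
      (QCoh.notMem_support_cokernel_of_surjective j hsurj)
  refine good_of_inv_bdd k ι hι hd h1 ih hN j (fun z hz => ?_) fun t => ?_
  · have e1 := ev_additive k hS hN hO hQ z
    have e2 := ev_additive k hS hN hO hQ 1
    have e3 := gO.inv z hz
    have e4 := (ih _ hQ hQd).inv z hz
    have f1 : ev k S.X₁ z = ev k N z := rfl
    have f2 : ev k S.X₁ 1 = ev k N 1 := rfl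
    have f3 : ev k S.X₂ z = ev k (Coh.structureModule Z) z := rfl
    have f4 : ev k S.X₂ 1 = ev k (Coh.structureModule Z) 1 := rfl
    omega
  · obtain ⟨B, hB⟩ := gO.bdd t
    refine ⟨B, fun z hz => le_trans ?_ (hB z hz)⟩
    let E := rep (z * cl ι ^ t)
    haveI : Mono ((tF E).map j) :=
      (OX.tensor_map_shortExact (OX.flat_of_isFinLocFree (Euler.isFinLocFree_of_isInvertible (isInv_rep _))) hS).mono_f
    exact Euler.finrank_H0_le_of_mono k ((tF E).map j) (Snapper.isCoh_tw k hO _)

end GrothLib.NumReg26
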